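import Mathlib.AlgebraicGeometry.EllipticCurve.VariableChange
import Mathlib.AlgebraicGeometry.EllipticCurve.Affine.Point
import Mathlib.FieldTheory.IsAlgClosed.Basic
import Mathlib.Tactic.LinearCombination

/-!
# Translations of a Weierstrass cubic; cuspidal cubics over an algebraically closed field
-/

namespace Groth.Agent.Weier21

open WeierstrassCurve WeierstrassCurve.Affine

section Transport

variable {F : Type*} [Field F] (W : WeierstrassCurve F)

/-- The change `x = x' + r`, `y = y' + s x' + t`. -/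
def shift (r s t : F) : WeierstrassCurve F := (VariableChange.mk 1 r s t) • W

theorem shift_coeffs (r s t : F) : shift W r s t =
    ⟨W.a₁ + 2 * s, W.a₂ - s * W.a₁ + 3 * r - s ^ 2, W.a₃ + r * W.a₁ + 2 * t,
      W.a₄ - s * W.a₃ + 2 * r * W.a₂ - (t + r * s) * W.a₁ + 3 * r ^ 2 - 2 * s * t,
      W.a₆ + r * W.a₄ + r ^ 2 * W.a₂ + r ^ 3 - t * W.a₃ - t ^ 2 - r * t * W.a₁⟩ := by
  simp [shift, variableChange_def]

theorem equation_shift {r s t x y : F} (h : W.toAffine.Equation x y) :
    (shift W r s t).toAffine.Equation (x - r) (y - s * (x - r) - t) := by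
  rw [equation_iff] at h ⊢
  simp only [shift_coeffs]
  linear_combination h

variable [W.IsElliptic] [DecidableEq F]

/-- Points of the translated cubic. -/
def shiftPt (r s t : F) : W.toAffine.Point → (shift W r s t).toAffine.Point
  | .zero => 0
  | .some x y h => .some (x - r) (y - s * (x - r) - t)
      (by
        have : (shift W r s t).IsElliptic := by rw [shift]; infer_instance
        exact equation_iff_nonsingular.1 (equation_shift W h.1))

theorem negY_shift (r s t x y : F) :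
    (shift W r s t).toAffine.negY (x - r) (y - s * (x - r) - t) = W.toAffine.negY x y - s * (x - r) - t := by
  simp only [negY, shift_coeffs]
  ring

theorem shiftPt_add (r s t : F) (P Q : W.toAffine.Point) :
    shiftPt W r s t (P + Q) = shiftPt W r s t P + shiftPt W r s t Q := by
  rcases P with _ | ⟨x₁, y₁, h₁⟩
  · rw [← Point.zero_def, zero_add]
    exact (zero_add _).symm
  rcases Q with _ | ⟨x₂, y₂, h₂⟩
  · rw [← Point.zero_def, add_zero]
    exact (add_zero _).symm
  by_cases hxy : x₁ = x₂ ∧ y₁ = W.toAffine.negY x₂ y₂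
  · rw [Point.add_of_Y_eq hxy.1 hxy.2]
    simp only [shiftPt]
    rw [Point.add_of_Y_eq (by rw [hxy.1]) (by rw [negY_shift, hxy.1, ← hxy.2])]
  rw [Point.add_some hxy]
  simp only [shiftPt]
  have hxy' : ¬(x₁ - r = x₂ - r ∧
      y₁ - s * (x₁ - r) - t = (shift W r s t).toAffine.negY (x₂ - r) (y₂ - s * (x₂ - r) - t)) := by
    rintro ⟨hx, hy⟩
    rw [sub_left_inj] at hx
    rw [negY_shift, hx, sub_left_inj, sub_left_inj] at hy
    exact hxy ⟨hx, hy⟩
  rw [Point.add_some hxy']
  have hs : (shift W r s t).toAffine.slope (x₁ - r) (x₂ - r) (y₁ - s * (x₁ - r) - t) (y₂ - s * (x₂ - r) - t) =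
      W.toAffine.slope x₁ x₂ y₁ y₂ - s := by
    by_cases hx : x₁ = x₂
    · subst hx
      have hne : y₁ ≠ W.toAffine.negY x₁ y₂ := fun h => hxy ⟨rfl, h⟩
      obtain rfl := Y_eq_of_Y_ne h₁.1 h₂.1 rfl hne
      have hne' : y₁ - s * (x₁ - r) - t ≠ (shift W r s t).toAffine.negY (x₁ - r) (y₁ - s * (x₁ - r) - t) :=
        fun h => hxy' ⟨rfl, h⟩
      rw [slope_of_Y_ne rfl hne, slope_of_Y_ne rfl hne', negY_shift,
        show y₁ - s * (x₁ - r) - t - (W.toAffine.negY x₁ y₁ - s * (x₁ - r) - t) = y₁ - W.toAffine.negY x₁ y₁ by ring,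
        div_sub' (sub_ne_zero.2 hne)]
      congr 1
      simp only [negY, shift_coeffs]
      ring
    · rw [slope_of_X_ne hx, slope_of_X_ne (fun h => hx (sub_left_inj.1 h)), sub_sub_sub_cancel_right,
        div_sub' (sub_ne_zero.2 hx)]
      congr 1 <;> ring
  simp only [Point.some.injEq]
  rw [hs]
  generalize W.toAffine.slope x₁ x₂ y₁ y₂ = L
  constructor
  · simp only [addX, shift_coeffs]
    ring
  · simp only [addY, negAddY, negY, addX, shift_coeffs]
    ring

/-- The translation as a homomorphism of groups. -/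
def shiftHom (r s t : F) : W.toAffine.Point →+ (shift W r s t).toAffine.Point where
  toFun := shiftPt W r s t
  map_zero' := rfl
  map_add' := shiftPt_add W r s t

theorem shiftHom_some (r s t : F) {x y : F} (h : W.toAffine.Nonsingular x y) :
    ∃ h', shiftHom W r s t (.some x y h) = .some (x - r) (y - s * (x - r) - t) h' :=
  ⟨_, rfl⟩

theorem shiftHom_injective (r s t : F) : Function.Injective (shiftHom W r s t) := by
  rintro (_ | ⟨x₁, y₁, h₁⟩) (_ | ⟨x₂, y₂, h₂⟩) h
  · rfl
  · cases h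
  · cases h
  · injection h with hx hy
    obtain rfl := sub_left_inj.1 hx
    obtain rfl := sub_left_inj.1 (sub_left_inj.1 hy)
    rfl

end Transport

/-- A cubic with `Δ = 0` and `c₄ = 0` over an algebraically closed field is `y² = x³` up to a translation. -/
theorem exists_cusp {k : Type*} [Field k] [IsAlgClosed k] (W : WeierstrassCurve k) (hΔ : W.Δ = 0) (hc : W.c₄ = 0) :
    ∃ r s t : k, shift W r s t = ⟨0, 0, 0, 0, 0⟩ := by
  simp only [WeierstrassCurve.Δ, c₄, b₂, b₄, b₆, b₈] at hΔ hc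
  by_cases h2 : (2 : k) = 0
  · have ha1 : W.a₁ = 0 := by
      refine pow_eq_zero_iff (n := 4) (by norm_num) |>.1 ?_
      linear_combination hc - (4 * W.a₁ ^ 2 * W.a₂ + 8 * W.a₂ ^ 2 - 24 * W.a₄ - 12 * W.a₁ * W.a₃) * h2
    rw [ha1] at hΔ
    have ha3 : W.a₃ = 0 := by
      refine pow_eq_zero_iff (n := 4) (by norm_num) |>.1 ?_
      linear_combination (norm := ring_nf) hΔ +
        (14 * W.a₃ ^ 4 + 108 * W.a₆ * W.a₃ ^ 2 + 216 * W.a₆ ^ 2 +
          8 * W.a₂ ^ 2 * (4 * W.a₂ * W.a₆ + W.a₂ * W.a₃ ^ 2 - W.a₄ ^ 2) +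
          32 * W.a₄ ^ 3 - 144 * W.a₂ * W.a₄ * W.a₆ - 36 * W.a₂ * W.a₄ * W.a₃ ^ 2) * h2
    obtain ⟨r, hr⟩ := IsAlgClosed.exists_pow_nat_eq W.a₄ (n := 2) (by norm_num)
    obtain ⟨s, hs⟩ := IsAlgClosed.exists_pow_nat_eq (W.a₂ + 3 * r) (n := 2) (by norm_num)
    obtain ⟨t, ht⟩ := IsAlgClosed.exists_pow_nat_eq (W.a₆ + r * W.a₄ + r ^ 2 * W.a₂ + r ^ 3) (n := 2) (by norm_num)
    refine ⟨r, s, t, ?_⟩
    rw [shift_coeffs, ha1, ha3]
    ext
    · simp only
      linear_combination s * h2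
    · simp only
      linear_combination -hs
    · simp only
      linear_combination t * h2
    · simp only
      linear_combination -hr + (r * W.a₂ + 2 * r ^ 2 - s * t) * h2
    · simp only
      linear_combination -ht
  set s := -W.a₁ / 2 with hs'
  have hs : 2 * s = -W.a₁ := by rw [hs', mul_div_cancel₀ _ h2]
  suffices ∃ r, W.a₂ - s * W.a₁ + 3 * r - s ^ 2 = 0 ∧
      W.a₄ - s * W.a₃ + 2 * r * W.a₂ - (-(W.a₃ + r * W.a₁) / 2 + r * s) * W.a₁ + 3 * r ^ 2 -
        2 * s * (-(W.a₃ + r * W.a₁) / 2) = 0 ∧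
      W.a₆ + r * W.a₄ + r ^ 2 * W.a₂ + r ^ 3 - (-(W.a₃ + r * W.a₁) / 2) * W.a₃ - (-(W.a₃ + r * W.a₁) / 2) ^ 2 -
        r * (-(W.a₃ + r * W.a₁) / 2) * W.a₁ = 0 by
    obtain ⟨r, e2, e4, e6⟩ := this
    refine ⟨r, s, -(W.a₃ + r * W.a₁) / 2, ?_⟩
    rw [shift_coeffs]
    ext
    · simp only; linear_combination hs
    · exact e2
    · simp only; field_simp; ring
    · exact e4
    · exact e6
  set A := W.a₁ ^ 2 + 4 * W.a₂ with hA
  set B := 2 * W.a₄ + W.a₁ * W.a₃ with hB
  set C := W.a₃ ^ 2 + 4 * W.a₆ with hC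
  have hc' : A ^ 2 = 24 * B := sub_eq_zero.1 hc
  obtain ⟨r, h1, h2', h3⟩ : ∃ r, A + 12 * r = 0 ∧ B + r * A + 6 * r ^ 2 = 0 ∧
      C + 2 * r * B + r ^ 2 * A + 4 * r ^ 3 = 0 := by
    have h4 : (4 : k) ≠ 0 := by
      intro h
      exact h2 (mul_self_eq_zero.1 (by linear_combination h))
    by_cases h3 : (3 : k) = 0
    · have hA0 : A = 0 := mul_self_eq_zero.1 (by linear_combination hc' + 8 * B * h3)
      have hB0 : B = 0 := by
        refine pow_eq_zero_iff (n := 3) (by norm_num) |>.1 ((mul_eq_zero.1 (?_ : (8 : k) * B ^ 3 = 0)).resolve_left ?_)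
        · linear_combination (norm := ring_nf) -hΔ + (-W.a₁ ^ 2 * W.a₆ - 4 * W.a₂ * W.a₆ + W.a₁ * W.a₃ * W.a₄ -
            W.a₂ * W.a₃ ^ 2 + W.a₄ ^ 2) * (A + 0) * hA0 + (-9) * C ^ 2 * h3 + 3 * B * C * h3 * A
        · intro h
          exact h2 (pow_eq_zero_iff (n := 3) (by norm_num) |>.1 (by linear_combination h))
      obtain ⟨r, hr⟩ := IsAlgClosed.exists_pow_nat_eq (-C / 4) (n := 3) (by norm_num)
      have hr' : 4 * r ^ 3 = -C := by rw [hr, mul_div_cancel₀ _ h4]
      exact ⟨r, by linear_combination hA0 + 4 * r * h3, by linear_combination hB0 + r * hA0 + 2 * r ^ 2 * h3,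
        by linear_combination hr' + 2 * r * hB0 + r ^ 2 * hA0⟩
    · have h12 : (12 : k) ≠ 0 := by
        rw [show (12 : k) = 4 * 3 by norm_num]
        exact mul_ne_zero h4 h3
      refine ⟨-A / 12, by field_simp; ring, ?_, ?_⟩
      · field_simp
        linear_combination -6 * hc'
      · have h6 : (-A ^ 3 + 36 * A * B - 216 * C) ^ 2 = 0 := by
          have h1728 : (A ^ 2 - 24 * B) ^ 3 - (-A ^ 3 + 36 * A * B - 216 * C) ^ 2 = 0 := by
            rw [hA, hB, hC]
            linear_combination 1728 * hΔ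
          rw [hc', sub_self] at h1728
          linear_combination -h1728
        have h6' := pow_eq_zero_iff (n := 2) (by norm_num) |>.1 h6
        field_simp
        linear_combination (-8) * h6'
  have h4' : (4 : k) ≠ 0 := fun h => h2 (mul_self_eq_zero.1 (by linear_combination h))
  refine ⟨r, ?_, ?_, ?_⟩
  · refine (mul_eq_zero.1 (?_ : (4 : k) * _ = 0)).resolve_left h4'
    rw [hs']
    field_simp
    linear_combination 4 * h1
  · refine (mul_eq_zero.1 (?_ : (2 : k) * _ = 0)).resolve_left h2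
    rw [hs']
    field_simp
    linear_combination h2'
  · refine (mul_eq_zero.1 (?_ : (4 : k) * _ = 0)).resolve_left h4'
    field_simp
    linear_combination 4 * h3

end Groth.Agent.Weier21
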