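import Mathlib.AlgebraicGeometry.EllipticCurve.Affine.Point
import Mathlib.RingTheory.Valuation.Basic
import Mathlib.Tactic.LinearCombination
import Mathlib.Tactic.FieldSimp

/-!
# Points of a cubic with cuspidal reduction

For a Weierstrass cubic whose coefficients are all of valuation `< 1`, the points reducing to a smooth point form a
subgroup on which `z = -x/y` is additive up to terms of smaller size. Hence such a point has no torsion prime to the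
residue characteristic.
-/

open Polynomial

namespace Groth.Agent.Weier21

open WeierstrassCurve WeierstrassCurve.Affine

variable {F : Type*} [Field F] {Γ : Type*} [LinearOrderedCommGroupWithZero Γ] (v : Valuation F Γ)

/-- All coefficients have valuation `< 1`. -/
structure Small (W : WeierstrassCurve F) : Prop where
  h₁ : v W.a₁ < 1
  h₂ : v W.a₂ < 1
  h₃ : v W.a₃ < 1
  h₄ : v W.a₄ < 1
  h₆ : v W.a₆ < 1

theorem mul_lt {a b : F} {c : Γ} (ha : v a < c) (hb : v b ≤ 1) : v (a * b) < c := by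
  rw [map_mul]
  exact lt_of_le_of_lt (mul_le_of_le_one_right' hb) ha

theorem lt_mul {a b : F} {c : Γ} (ha : v a < 1) (hb : v b ≤ c) (hc : 0 < c) : v (a * b) < c := by
  rw [map_mul]
  rcases eq_or_lt_of_le (zero_le : (0 : Γ) ≤ v b) with h | h
  · rw [← h, mul_zero]
    exact hc
  · exact lt_of_lt_of_le (mul_lt_of_lt_one_left h ha) hb

theorem le_mul {a b : F} {c : Γ} (ha : v a ≤ c) (hb : v b ≤ 1) : v (a * b) ≤ c := by
  rw [map_mul]
  exact (mul_le_of_le_one_right' hb).trans ha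

theorem pow_le_one' {a : F} (ha : v a ≤ 1) (n : ℕ) : v (a ^ n) ≤ 1 := by
  rw [map_pow]
  exact pow_le_one₀ zero_le ha

theorem natCast_le_one (n : ℕ) : v (n : F) ≤ 1 := by
  induction n with
  | zero => simp
  | succ n ih => rw [Nat.cast_succ]; exact v.map_add_le ih v.map_one.le

variable {W : WeierstrassCurve F}

local macro "eqn" : term => `(fun h => (WeierstrassCurve.Affine.equation_iff _ _).1 h)

/-- The equation in the coordinates `z = -x/y`, `w = -1/y`. -/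
theorem zw_equation {x y : F} (he : W.toAffine.Equation x y) (hy : y ≠ 0) :
    -1 / y * (1 - W.a₁ * (-x / y) - W.a₂ * (-x / y) ^ 2 - W.a₃ * (-1 / y) - W.a₄ * (-x / y) * (-1 / y) -
      W.a₆ * (-1 / y) ^ 2) = (-x / y) ^ 3 := by
  have e := (equation_iff _ _).1 he
  field_simp
  linear_combination (norm := ring_nf) -e

theorem z_le_one (ha : Small v W) {x y : F} (he : W.toAffine.Equation x y) (hy : y ≠ 0)
    (hw : v (-1 / y) ≤ 1) : v (-x / y) ≤ 1 := by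
  have e := zw_equation he hy
  generalize -x / y = z at e ⊢
  generalize -1 / y = w at e hw
  by_contra! hz
  have hzpos : 0 < v z := zero_lt_one.trans hz
  have e' : z ^ 3 = w + -(W.a₁ * w) * z + -(W.a₂ * w) * z ^ 2 + -(W.a₃ * w ^ 2) + -(W.a₄ * w ^ 2) * z +
      -(W.a₆ * w ^ 3) := by rw [← e]; ring
  have h0 : v z ^ 2 < v z ^ 3 := pow_lt_pow_right₀ hz (by norm_num)
  have h1 : (1 : Γ) ≤ v z ^ 2 := one_le_pow₀ hz.le
  have h2 : v z ≤ v z ^ 2 := le_self_pow hz.le (by norm_num)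
  have key : v (z ^ 3) ≤ v z ^ 2 := by
    rw [e']
    have ha' : ∀ {a : F} {n : ℕ}, v a < 1 → v (-(a * w ^ n)) ≤ 1 := fun {a n} h => by
      rw [v.map_neg]; exact (mul_lt v h (pow_le_one' v hw n)).le
    refine v.map_add_le (v.map_add_le (v.map_add_le (v.map_add_le (v.map_add_le (hw.trans h1) ?_) ?_) ?_) ?_) ?_
    · rw [map_mul]
      refine le_trans (mul_le_of_le_one_left' ?_) h2
      simpa using ha' (n := 1) ha.h₁
    · rw [map_mul, map_pow]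
      refine mul_le_of_le_one_left' ?_
      simpa using ha' (n := 1) ha.h₂
    · exact (ha' ha.h₃).trans h1
    · rw [map_mul]
      exact le_trans (mul_le_of_le_one_left' (ha' ha.h₄)) h2
    · exact (ha' ha.h₆).trans h1
  rw [map_pow] at key
  exact not_lt.2 key h0

/-- For a point with `v(w) ≤ 1`, `v(w) = v(z)³`. -/
theorem v_w (ha : Small v W) {x y : F} (he : W.toAffine.Equation x y) (hy : y ≠ 0) (hw : v (-1 / y) ≤ 1) :
    v (-1 / y) = v (-x / y) ^ 3 := by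
  have hz := z_le_one v ha he hy hw
  have hu : v (1 - W.a₁ * (-x / y) - W.a₂ * (-x / y) ^ 2 - W.a₃ * (-1 / y) - W.a₄ * (-x / y) * (-1 / y) -
      W.a₆ * (-1 / y) ^ 2) = 1 := by
    rw [show 1 - W.a₁ * (-x / y) - W.a₂ * (-x / y) ^ 2 - W.a₃ * (-1 / y) - W.a₄ * (-x / y) * (-1 / y) -
      W.a₆ * (-1 / y) ^ 2 = 1 + -(W.a₁ * (-x / y) + W.a₂ * (-x / y) ^ 2 + W.a₃ * (-1 / y) +
        W.a₄ * (-x / y) * (-1 / y) + W.a₆ * (-1 / y) ^ 2) by ring]
    refine v.map_one_add_of_lt ?_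
    rw [v.map_neg]
    exact v.map_add_lt (v.map_add_lt (v.map_add_lt (v.map_add_lt (mul_lt v ha.h₁ hz)
      (mul_lt v ha.h₂ (pow_le_one' v hz 2))) (mul_lt v ha.h₃ hw)) (mul_lt v (mul_lt v ha.h₄ hz) hw))
      (mul_lt v ha.h₆ (pow_le_one' v hw 2))
  rw [← map_pow, ← zw_equation he hy, map_mul, hu, mul_one]

theorem w_le (ha : Small v W) {x y : F} (he : W.toAffine.Equation x y) (hy : y ≠ 0) (hw : v (-1 / y) ≤ 1)
    {c : Γ} (hz : v (-x / y) ≤ c) : v (-1 / y) ≤ c := by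
  rw [v_w v ha he hy hw]
  exact (pow_le_of_le_one zero_le (z_le_one v ha he hy hw) (by norm_num)).trans hz

theorem negY_bounds (ha : Small v W) {x y : F} (he : W.toAffine.Equation x y) (hy : y ≠ 0) (hw : v (-1 / y) ≤ 1)
    {c : Γ} (hc : 0 < c) (hz : v (-x / y) ≤ c) :
    W.toAffine.negY x y ≠ 0 ∧ v (-1 / W.toAffine.negY x y) ≤ 1 ∧
      v (-x / W.toAffine.negY x y + -x / y) < c := by
  have hz1 := z_le_one v ha he hy hw
  set u := 1 + -(W.a₁ * (-x / y) + W.a₃ * (-1 / y)) with hu'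
  have hs : v (-(W.a₁ * (-x / y) + W.a₃ * (-1 / y))) < 1 := by
    rw [v.map_neg]
    exact v.map_add_lt (mul_lt v ha.h₁ hz1) (mul_lt v ha.h₃ hw)
  have hu : v u = 1 := v.map_one_add_of_lt hs
  have hu0 : u ≠ 0 := by
    intro h
    rw [h, map_zero] at hu
    exact zero_ne_one hu
  have hn : W.toAffine.negY x y = -(y * u) := by
    simp only [negY, hu']
    field_simp
    ring
  have hyu : y * u ≠ 0 := mul_ne_zero hy hu0
  refine ⟨by rw [hn]; exact neg_ne_zero.2 hyu, ?_, ?_⟩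
  · rw [hn, show -1 / -(y * u) = -(-1 / y) * u⁻¹ by field_simp, map_mul, v.map_neg, map_inv₀, hu, inv_one, mul_one]
    exact hw
  · rw [hn, show -x / -(y * u) + -x / y = -x / y * ((u - 1) / u) by field_simp; ring, mul_comm]
    refine lt_mul v ?_ hz hc
    rw [map_div₀, hu, div_one, hu', add_sub_cancel_left]
    exact hs

/-- The third point of intersection with a line. -/
theorem third {c : Γ} (ha : Small v W) (hc : 0 < c) (hc1 : c ≤ 1) {x₁ x₂ y₁ y₂ L n : F}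
    (hy₁ : y₁ ≠ 0) (hy₂ : y₂ ≠ 0) (hz₁ : v (-x₁ / y₁) ≤ c) (hz₂ : v (-x₂ / y₂) ≤ c)
    (hw₁ : v (-1 / y₁) ≤ c) (e₁ : y₁ = L * x₁ + n) (e₂ : y₂ = L * x₂ + n) (hn : n ≠ 0) (hα : v (-L / n) ≤ c)
    (h2 : W.a₄ - (2 * L * n + W.a₁ * n + W.a₃ * L) =
      x₁ * x₂ + x₁ * W.toAffine.addX x₁ x₂ L + x₂ * W.toAffine.addX x₁ x₂ L)
    (h3 : W.a₆ - (n ^ 2 + W.a₃ * n) = -(x₁ * x₂ * W.toAffine.addX x₁ x₂ L)) :
    W.toAffine.negAddY x₁ x₂ y₁ L ≠ 0 ∧ v (-1 / W.toAffine.negAddY x₁ x₂ y₁ L) ≤ 1 ∧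
      v (-W.toAffine.addX x₁ x₂ L / W.toAffine.negAddY x₁ x₂ y₁ L + (-x₁ / y₁ + -x₂ / y₂)) < c := by
  have hβ : v (-1 / n) ≤ c := by
    rw [show -1 / n = -1 / y₁ + -(-L / n * (-x₁ / y₁)) by subst e₁; field_simp; ring]
    refine v.map_add_le hw₁ ?_
    rw [v.map_neg]
    exact le_mul v hα (hz₁.trans hc1)
  have hα1 := hα.trans hc1
  have hβ1 := hβ.trans hc1
  have hA : v (1 + (W.a₂ * (-L / n) + W.a₄ * (-L / n) ^ 2 + W.a₆ * (-L / n) ^ 3)) = 1 :=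
    v.map_one_add_of_lt (v.map_add_lt (v.map_add_lt (mul_lt v ha.h₂ hα1) (mul_lt v ha.h₄ (pow_le_one' v hα1 2)))
      (mul_lt v ha.h₆ (pow_le_one' v hα1 3)))
  have hB : v (W.a₁ * (-L / n) + W.a₂ * (-1 / n) + W.a₃ * (-L / n) ^ 2 + W.a₄ * (-L / n) * ((2 : ℕ) * (-1 / n)) +
      W.a₆ * (-L / n) ^ 2 * ((3 : ℕ) * (-1 / n))) < c := by
    refine v.map_add_lt (v.map_add_lt (v.map_add_lt (v.map_add_lt (lt_mul v ha.h₁ hα hc) (lt_mul v ha.h₂ hβ hc))
      (lt_mul v ha.h₃ ?_ hc)) ?_) ?_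
    · rw [pow_two]; exact le_mul v hα hα1
    · refine mul_lt v (lt_mul v ha.h₄ hα hc) ?_
      rw [map_mul]; exact mul_le_one₀ (natCast_le_one v 2) zero_le hβ1
    · refine mul_lt v (lt_mul v ha.h₆ ?_ hc) ?_
      · rw [pow_two]; exact le_mul v hα hα1
      · rw [map_mul]; exact mul_le_one₀ (natCast_le_one v 3) zero_le hβ1
  have e₃ : W.toAffine.negAddY x₁ x₂ y₁ L = L * W.toAffine.addX x₁ x₂ L + n := by rw [negAddY, e₁]; ring
  have h1 : W.a₂ = L ^ 2 + W.a₁ * L - x₁ - x₂ - W.toAffine.addX x₁ x₂ L := by simp only [addX]; ring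
  rw [e₃]
  generalize W.toAffine.addX x₁ x₂ L = x₃ at h1 h2 h3 ⊢
  rw [sub_eq_iff_eq_add] at h2 h3
  rw [h1, h2, h3] at hA hB
  have eA : 1 + ((L ^ 2 + W.a₁ * L - x₁ - x₂ - x₃) * (-L / n) +
      (x₁ * x₂ + x₁ * x₃ + x₂ * x₃ + (2 * L * n + W.a₁ * n + W.a₃ * L)) * (-L / n) ^ 2 +
      (-(x₁ * x₂ * x₃) + (n ^ 2 + W.a₃ * n)) * (-L / n) ^ 3) = y₁ * y₂ * (L * x₃ + n) / n ^ 3 := by
    subst e₁ e₂
    field_simp
    ring
  have hA0 : y₁ * y₂ * (L * x₃ + n) / n ^ 3 ≠ 0 := by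
    intro h
    rw [eA, h, map_zero] at hA
    exact zero_ne_one hA
  have hy₃ : L * x₃ + n ≠ 0 := fun h => hA0 (by simp [h])
  have eB : -x₃ / (L * x₃ + n) + (-x₁ / y₁ + -x₂ / y₂) = -((W.a₁ * (-L / n) +
      (L ^ 2 + W.a₁ * L - x₁ - x₂ - x₃) * (-1 / n) + W.a₃ * (-L / n) ^ 2 +
      (x₁ * x₂ + x₁ * x₃ + x₂ * x₃ + (2 * L * n + W.a₁ * n + W.a₃ * L)) * (-L / n) * ((2 : ℕ) * (-1 / n)) +
      (-(x₁ * x₂ * x₃) + (n ^ 2 + W.a₃ * n)) * (-L / n) ^ 2 * ((3 : ℕ) * (-1 / n))) /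
      (y₁ * y₂ * (L * x₃ + n) / n ^ 3)) := by
    subst e₁ e₂
    have hy₃' : x₃ * L + n ≠ 0 := by rwa [mul_comm]
    push_cast
    field_simp
    ring
  have hs : v (-x₃ / (L * x₃ + n) + (-x₁ / y₁ + -x₂ / y₂)) < c := by
    rw [eB, v.map_neg, map_div₀, ← eA, hA, div_one]
    exact hB
  refine ⟨hy₃, ?_, hs⟩
  rw [show -1 / (L * x₃ + n) = -L / n * (-x₃ / (L * x₃ + n)) + -1 / n by field_simp; ring]
  refine v.map_add_le (le_mul v hα1 ?_) hβ1
  rw [show -x₃ / (L * x₃ + n) =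
    -x₃ / (L * x₃ + n) + (-x₁ / y₁ + -x₂ / y₂) + -(-x₁ / y₁ + -x₂ / y₂) by ring]
  refine v.map_add_le (hs.le.trans hc1) ?_
  rw [v.map_neg]
  exact v.map_add_le (hz₁.trans hc1) (hz₂.trans hc1)

/-- The line through two points reducing to smooth points. -/
theorem line [DecidableEq F] (ha : Small v W) {c : Γ} (hc1 : c ≤ 1) {x₁ x₂ y₁ y₂ : F}
    (he₁ : W.toAffine.Equation x₁ y₁) (he₂ : W.toAffine.Equation x₂ y₂)
    (hy₁ : y₁ ≠ 0) (hy₂ : y₂ ≠ 0) (hw₁ : v (-1 / y₁) ≤ 1) (hw₂ : v (-1 / y₂) ≤ 1)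
    (hz₁ : v (-x₁ / y₁) ≤ c) (hz₂ : v (-x₂ / y₂) ≤ c)
    (hxy : ¬(x₁ = x₂ ∧ y₁ = W.toAffine.negY x₂ y₂)) :
    ∃ n : F, y₁ = W.toAffine.slope x₁ x₂ y₁ y₂ * x₁ + n ∧ y₂ = W.toAffine.slope x₁ x₂ y₁ y₂ * x₂ + n ∧ n ≠ 0 ∧
      v (-W.toAffine.slope x₁ x₂ y₁ y₂ / n) ≤ c := by
  have hw₁c := w_le v ha he₁ hy₁ hw₁ hz₁
  have hw₂c := w_le v ha he₂ hy₂ hw₂ hz₂
  have hz₁1 := hz₁.trans hc1
  have hz₂1 := hz₂.trans hc1
  by_cases hx : x₁ = x₂
  · have hne : y₁ ≠ W.toAffine.negY x₂ y₂ := fun h => hxy ⟨hx, h⟩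
    obtain rfl := Y_eq_of_Y_ne he₁ he₂ hx hne
    subst hx
    rw [slope_of_Y_ne rfl hne]
    set den := y₁ - W.toAffine.negY x₁ y₁ with hden
    have hden0 : den ≠ 0 := sub_ne_zero.2 hne
    set num := 3 * x₁ ^ 2 + 2 * W.a₂ * x₁ + W.a₄ - W.a₁ * y₁ with hnum
    set D := 1 + -(W.a₁ * (-x₁ / y₁) + W.a₂ * (-x₁ / y₁) ^ 2 + W.a₃ * ((2 : ℕ) * (-1 / y₁)) +
      W.a₄ * (-x₁ / y₁) * ((2 : ℕ) * (-1 / y₁)) + W.a₆ * ((3 : ℕ) * (-1 / y₁) ^ 2)) with hD'
    have hD : v D = 1 := by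
      refine v.map_one_add_of_lt ?_
      rw [v.map_neg]
      have h2w : v (((2 : ℕ) : F) * (-1 / y₁)) ≤ 1 := by rw [map_mul]; exact mul_le_one₀ (natCast_le_one v 2) zero_le hw₁
      exact v.map_add_lt (v.map_add_lt (v.map_add_lt (v.map_add_lt (mul_lt v ha.h₁ hz₁1)
        (mul_lt v ha.h₂ (pow_le_one' v hz₁1 2))) (mul_lt v ha.h₃ h2w)) (mul_lt v (mul_lt v ha.h₄ hz₁1) h2w))
        (mul_lt v ha.h₆ (by rw [map_mul]; exact mul_le_one₀ (natCast_le_one v 3) zero_le (pow_le_one' v hw₁ 2)))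
    have hD0 : D ≠ 0 := by intro h; rw [h, map_zero] at hD; exact zero_ne_one hD
    have hν : (y₁ - num / den * x₁) * den = -(y₁ ^ 2 * D) := by
      rw [sub_mul, mul_assoc, mul_comm x₁, ← mul_assoc, div_mul_cancel₀ _ hden0, hD', hnum, hden]
      have e := (equation_iff _ _).1 he₁
      simp only [negY]
      push_cast
      field_simp
      linear_combination (norm := ring_nf) 3 * e
    refine ⟨y₁ - num / den * x₁, by ring, by ring, ?_, ?_⟩
    · intro h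
      rw [h, zero_mul] at hν
      exact neg_ne_zero.2 (mul_ne_zero (pow_ne_zero _ hy₁) hD0) hν.symm
    · have : -(num / den) / (y₁ - num / den * x₁) = num / y₁ ^ 2 * D⁻¹ := by
        rw [eq_div_iff hden0 |>.2 hν]
        field_simp
      rw [this, map_mul, map_inv₀, hD, inv_one, mul_one, hnum,
        show (3 * x₁ ^ 2 + 2 * W.a₂ * x₁ + W.a₄ - W.a₁ * y₁) / y₁ ^ 2 = -x₁ / y₁ * ((3 : ℕ) * (-x₁ / y₁)) +
          W.a₂ * (-1 / y₁) * ((2 : ℕ) * (-x₁ / y₁)) + W.a₄ * (-1 / y₁) * (-1 / y₁) + W.a₁ * (-1 / y₁) by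
          push_cast; field_simp; ring]
      have h3z : v (((3 : ℕ) : F) * (-x₁ / y₁)) ≤ 1 := by rw [map_mul]; exact mul_le_one₀ (natCast_le_one v 3) zero_le hz₁1
      have h2z : v (((2 : ℕ) : F) * (-x₁ / y₁)) ≤ 1 := by rw [map_mul]; exact mul_le_one₀ (natCast_le_one v 2) zero_le hz₁1
      have hmul : ∀ {a : F}, v a < 1 → v (a * (-1 / y₁)) ≤ c := fun {a} h => by
        rw [mul_comm]; exact le_mul v hw₁c h.le
      exact v.map_add_le (v.map_add_le (v.map_add_le (le_mul v hz₁ h3z) (le_mul v (hmul ha.h₂) h2z))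
        (le_mul v (hmul ha.h₄) hw₁)) (hmul ha.h₁)
  · rw [slope_of_X_ne hx]
    set L := (y₁ - y₂) / (x₁ - x₂) with hL'
    have hL : L * (x₁ - x₂) = y₁ - y₂ := div_mul_cancel₀ _ (sub_ne_zero.2 hx)
    have e12 : y₂ = L * x₂ + (y₁ - L * x₁) := by linear_combination hL
    have E₁ := zw_equation he₁ hy₁
    have E₂ := zw_equation he₂ hy₂
    have hz : -x₁ / y₁ - -x₂ / y₂ = (y₁ - L * x₁) * (x₂ - x₁) / (y₁ * y₂) := by
      field_simp
      linear_combination (norm := ring_nf) -x₁ * hL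
    have hwd : -1 / y₁ - -1 / y₂ = L * (x₁ - x₂) / (y₁ * y₂) := by
      rw [hL]; field_simp; ring
    set z₁ := -x₁ / y₁
    set z₂ := -x₂ / y₂
    set w₁ := -1 / y₁
    set w₂ := -1 / y₂
    set D := 1 + -(W.a₁ * z₂ + W.a₂ * z₂ ^ 2 + W.a₃ * (w₁ + w₂) + W.a₄ * z₂ * (w₁ + w₂) +
      W.a₆ * (w₁ ^ 2 + w₁ * w₂ + w₂ ^ 2)) with hD'
    set T := z₁ * z₁ + z₁ * z₂ + z₂ * z₂ + W.a₁ * w₁ + W.a₂ * w₁ * (z₁ + z₂) + W.a₄ * w₁ * w₁ with hT'
    have hD : v D = 1 := by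
      refine v.map_one_add_of_lt ?_
      rw [v.map_neg]
      have hww : v (w₁ + w₂) ≤ 1 := v.map_add_le hw₁ hw₂
      exact v.map_add_lt (v.map_add_lt (v.map_add_lt (v.map_add_lt (mul_lt v ha.h₁ hz₂1)
        (mul_lt v ha.h₂ (pow_le_one' v hz₂1 2))) (mul_lt v ha.h₃ hww)) (mul_lt v (mul_lt v ha.h₄ hz₂1) hww))
        (mul_lt v ha.h₆ (v.map_add_le (v.map_add_le (pow_le_one' v hw₁ 2) (le_mul v hw₁ hw₂)) (pow_le_one' v hw₂ 2)))
    have hD0 : D ≠ 0 := by intro h; rw [h, map_zero] at hD; exact zero_ne_one hD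
    have key : (w₁ - w₂) * D = (z₁ - z₂) * T := by
      rw [hD', hT']
      linear_combination E₁ - E₂
    have hν0 : y₁ - L * x₁ ≠ 0 := by
      intro h
      rw [h, zero_mul, zero_div] at hz
      rw [hz, zero_mul, mul_eq_zero, or_iff_left hD0, hwd, div_eq_zero_iff, or_iff_left (mul_ne_zero hy₁ hy₂),
        mul_eq_zero, or_iff_left (sub_ne_zero.2 hx)] at key
      exact hy₁ (by simpa [key] using h)
    refine ⟨y₁ - L * x₁, by ring, e12, hν0, ?_⟩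
    have : -L / (y₁ - L * x₁) = T * D⁻¹ := by
      rw [hz, hwd] at key
      have h12 : x₁ - x₂ ≠ 0 := sub_ne_zero.2 hx
      field_simp at key ⊢
      refine mul_left_cancel₀ h12 ?_
      linear_combination (norm := ring_nf) -key
    rw [this, map_mul, map_inv₀, hD, inv_one, mul_one, hT']
    have hw' : ∀ {a : F}, v a < 1 → v (a * w₁) ≤ c := fun {a} h => by
      rw [mul_comm]; exact le_mul v hw₁c h.le
    exact v.map_add_le (v.map_add_le (v.map_add_le (v.map_add_le (v.map_add_le (le_mul v hz₁ hz₁1)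
      (le_mul v hz₁ hz₂1)) (le_mul v hz₂ hz₂1)) (hw' ha.h₁)) (le_mul v (hw' ha.h₂) (v.map_add_le hz₁1 hz₂1)))
      (le_mul v (hw' ha.h₄) hw₁)

/-- A point reducing to a smooth point. -/
def Mem : W.toAffine.Point → Prop
  | .zero => True
  | .some _ y _ => y ≠ 0 ∧ v (-1 / y) ≤ 1

/-- The coordinate `-x/y`. -/
def zc : W.toAffine.Point → F
  | .zero => 0
  | .some x y _ => -x / y

theorem zc_le_one (ha : Small v W) : ∀ {P : W.toAffine.Point}, Mem v P → v (zc P) ≤ 1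
  | .zero, _ => by simp [zc]
  | .some _ _ h, hP => z_le_one v ha h.1 hP.1 hP.2

theorem zc_ne_zero (ha : Small v W) {P : W.toAffine.Point} (hP : Mem v P) (h0 : P ≠ 0) : zc P ≠ 0 := by
  rcases P with _ | ⟨x, y, h⟩
  · exact absurd rfl h0
  · intro hz
    have := v_w v ha h.1 hP.1 hP.2
    simp only [zc] at hz
    rw [hz, map_zero, zero_pow (by norm_num), v.zero_iff] at this
    exact hP.1 (by simpa using this)

/-- Additivity of `z` up to smaller terms. -/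
theorem add_bound [DecidableEq F] (ha : Small v W) {c : Γ} (hc : 0 < c) (hc1 : c ≤ 1) {P Q : W.toAffine.Point}
    (hP : Mem v P) (hQ : Mem v Q) (hzP : v (zc P) ≤ c) (hzQ : v (zc Q) ≤ c) :
    Mem v (P + Q) ∧ v (zc (P + Q) - zc P - zc Q) < c := by
  rcases P with _ | ⟨x₁, y₁, h₁⟩
  · rw [← Point.zero_def, zero_add]
    exact ⟨hQ, by simpa [zc, Point.zero_def] using hc⟩
  rcases Q with _ | ⟨x₂, y₂, h₂⟩
  · rw [← Point.zero_def, add_zero]
    exact ⟨hP, by simpa [zc, Point.zero_def] using hc⟩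
  obtain ⟨hy₁, hw₁⟩ := hP
  obtain ⟨hy₂, hw₂⟩ := hQ
  by_cases hxy : x₁ = x₂ ∧ y₁ = W.toAffine.negY x₂ y₂
  · rw [Point.add_of_Y_eq hxy.1 hxy.2]
    refine ⟨trivial, ?_⟩
    obtain ⟨hx, hy⟩ := hxy
    have := (negY_bounds v ha h₂.1 hy₂ hw₂ hc hzQ).2.2
    rw [show (zc (0 : W.toAffine.Point)) = 0 from rfl]
    simp only [zc]
    rw [hx, hy, show (0 : F) - -x₂ / W.toAffine.negY x₂ y₂ - -x₂ / y₂ =
      -(-x₂ / W.toAffine.negY x₂ y₂ + -x₂ / y₂) by ring, v.map_neg]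
    exact this
  obtain ⟨n, e₁, e₂, hn, hα⟩ := line v ha hc1 h₁.1 h₂.1 hy₁ hy₂ hw₁ hw₂ hzP hzQ hxy
  set L := W.toAffine.slope x₁ x₂ y₁ y₂ with hL
  have hp := addPolynomial_slope h₁.1 h₂.1 hxy
  rw [addPolynomial_eq, neg_inj, Cubic.prod_X_sub_C_eq, Cubic.toPoly_injective] at hp
  obtain ⟨t₃, t₃w, ts⟩ := third v ha hc hc1 hy₁ hy₂ hzP hzQ (w_le v ha h₁.1 hy₁ hw₁ hzP) e₁ e₂ hn hα
    (by have := congrArg Cubic.c hp
        simp only [← hL] at this
        rw [e₁] at this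
        linear_combination (norm := ring_nf) this)
    (by have := congrArg Cubic.d hp
        simp only [← hL] at this
        rw [e₁] at this
        linear_combination (norm := ring_nf) this)
  have ht : W.toAffine.Equation (W.toAffine.addX x₁ x₂ L) (W.toAffine.negAddY x₁ x₂ y₁ L) :=
    (nonsingular_negAdd h₁ h₂ hxy).1
  have hY : W.toAffine.addY x₁ x₂ y₁ L =
      W.toAffine.negY (W.toAffine.addX x₁ x₂ L) (W.toAffine.negAddY x₁ x₂ y₁ L) := rfl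
  generalize W.toAffine.negAddY x₁ x₂ y₁ L = yt at t₃ t₃w ts ht hY
  rw [Point.add_some hxy]
  have htz : v (-W.toAffine.addX x₁ x₂ L / yt) ≤ c := by
    rw [show -W.toAffine.addX x₁ x₂ L / yt = -W.toAffine.addX x₁ x₂ L / yt + (-x₁ / y₁ + -x₂ / y₂) +
      -(-x₁ / y₁ + -x₂ / y₂) by ring]
    refine v.map_add_le ts.le ?_
    rw [v.map_neg]
    exact v.map_add_le hzP hzQ
  obtain ⟨k₁, k₂, k₃⟩ := negY_bounds v ha ht t₃ t₃w hc htz
  simp only [Mem, zc, ← hL, hY]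
  refine ⟨⟨k₁, k₂⟩, ?_⟩
  rw [show -W.toAffine.addX x₁ x₂ L / W.toAffine.negY (W.toAffine.addX x₁ x₂ L) yt - -x₁ / y₁ - -x₂ / y₂ =
    (-W.toAffine.addX x₁ x₂ L / W.toAffine.negY (W.toAffine.addX x₁ x₂ L) yt + -W.toAffine.addX x₁ x₂ L / yt) +
      -(-W.toAffine.addX x₁ x₂ L / yt + (-x₁ / y₁ + -x₂ / y₂)) by ring]
  exact v.map_add_lt k₃ (by rw [v.map_neg]; exact ts)

/-- No torsion prime to the residue characteristic among the points reducing to smooth points. -/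
theorem not_mem_of_torsion [DecidableEq F] (ha : Small v W) {n : ℕ} (hn : v (n : F) = 1) {Q : W.toAffine.Point}
    (hQ : n • Q = 0) (h0 : Q ≠ 0) : ¬Mem v Q := by
  intro hm
  set c := v (zc Q) with hc'
  have hc : 0 < c := v.pos_iff.2 (zc_ne_zero v ha hm h0)
  have hc1 : c ≤ 1 := zc_le_one v ha hm
  have key : ∀ j : ℕ, Mem v (j • Q) ∧ v (zc (j • Q) - j * zc Q) < c := by
    intro j
    induction j with
    | zero => rw [zero_smul]; exact ⟨trivial, by simpa [zc, Point.zero_def] using hc⟩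
    | succ j ih =>
      have hj : v (zc (j • Q)) ≤ c := by
        rw [show zc (j • Q) = zc (j • Q) - j * zc Q + j * zc Q by ring]
        refine v.map_add_le ih.2.le ?_
        rw [map_mul]
        exact mul_le_of_le_one_left' (natCast_le_one v j)
      obtain ⟨h1, h2⟩ := add_bound v ha hc hc1 ih.1 hm hj le_rfl
      rw [succ_nsmul]
      refine ⟨h1, ?_⟩
      rw [show zc (j • Q + Q) - ((j + 1 : ℕ) : F) * zc Q = zc (j • Q + Q) - zc (j • Q) - zc Q +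
        (zc (j • Q) - j * zc Q) by push_cast; ring]
      exact v.map_add_lt h2 ih.2
  have := (key n).2
  rw [hQ, show zc (0 : W.toAffine.Point) = 0 from rfl, zero_sub, v.map_neg, map_mul, hn, one_mul] at this
  exact lt_irrefl _ this

end Groth.Agent.Weier21
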