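import Groth.Agent.Lib.Weier21.Cusp
import Groth.Agent.Lib.Weier21.Change
import Mathlib.AlgebraicGeometry.EllipticCurve.Reduction

/-!
# A point of order `> 4` prime to the residue characteristic forces semistable reduction
-/

universe u

namespace Groth.Agent.Weier21

open WeierstrassCurve WeierstrassCurve.Affine

section

variable {F : Type*} [Field F] {Γ : Type*} [LinearOrderedCommGroupWithZero Γ] (v : Valuation F Γ)

theorem small_shift {W : WeierstrassCurve F} (ha : Small v W) {r s t : F} (hr : v r < 1) (hs : v s < 1) (ht : v t < 1) :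
    Small v (shift W r s t) := by
  have h2 : ∀ {a : F}, v a < 1 → v (2 * a) < 1 := fun {a} h => by
    rw [mul_comm]; exact mul_lt v h (natCast_le_one v 2)
  have hsub : ∀ {a b : F}, v a < 1 → v b < 1 → v (a - b) < 1 := fun h h' => v.map_sub_lt h h'
  have h3 : ∀ {a : F}, v a < 1 → v (3 * a) < 1 := fun {a} h => by
    rw [mul_comm]; exact mul_lt v h (natCast_le_one v 3)
  obtain ⟨a1, a2, a3, a4, a6⟩ := ha
  rw [shift_coeffs]
  have pw : ∀ {a : F} (n : ℕ), v a < 1 → v (a ^ (n + 1)) < 1 := fun {a} n h => by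
    rw [pow_succ']; exact mul_lt v h (pow_le_one' v h.le n)
  exact ⟨v.map_add_lt a1 (h2 hs), hsub (v.map_add_lt (hsub a2 (mul_lt v hs a1.le)) (h3 hr)) (pw 1 hs),
    v.map_add_lt (v.map_add_lt a3 (mul_lt v hr a1.le)) (h2 ht),
    hsub (v.map_add_lt (hsub (v.map_add_lt (hsub a4 (mul_lt v hs a3.le)) (mul_lt v (h2 hr) a2.le))
      (mul_lt v (v.map_add_lt ht (mul_lt v hr hs.le)) a1.le)) (h3 (pw 1 hr))) (mul_lt v (h2 hs) ht.le),
    hsub (hsub (hsub (v.map_add_lt (v.map_add_lt (v.map_add_lt a6 (mul_lt v hr a4.le)) (mul_lt v (pw 1 hr) a2.le))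
      (pw 2 hr)) (mul_lt v ht a3.le)) (pw 1 ht)) (mul_lt v (mul_lt v hr ht.le) a1.le)⟩

theorem v_x_lt {W : WeierstrassCurve F} (ha : Small v W) {x y : F} (he : W.toAffine.Equation x y) (hy : v y < 1) :
    v x < 1 := by
  by_contra! hx
  have h1 : (1 : Γ) ≤ v x ^ 2 := one_le_pow₀ hx
  have h2 : v x ≤ v x ^ 2 := le_self_pow hx (by norm_num)
  have key : v (x ^ 3) < v x ^ 2 := by
    rw [show x ^ 3 = y * y + W.a₁ * y * x + W.a₃ * y - W.a₂ * x ^ 2 - W.a₄ * x - W.a₆ by
      linear_combination -((equation_iff _ _).1 he)]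
    have hx0 : 0 < v x := zero_lt_one.trans_le hx
    refine v.map_sub_lt (v.map_sub_lt (v.map_sub_lt (v.map_add_lt (v.map_add_lt ?_ ?_) ?_) ?_) ?_) (ha.h₆.trans_le h1)
    · exact (mul_lt v hy hy.le).trans_le h1
    · rw [map_mul]
      exact (mul_lt_of_lt_one_left hx0 (mul_lt v ha.h₁ hy.le)).trans_le h2
    · exact (mul_lt v ha.h₃ hy.le).trans_le h1
    · rw [map_mul, map_pow]
      exact mul_lt_of_lt_one_left (pow_pos hx0 2) ha.h₂
    · rw [map_mul]
      exact (mul_lt_of_lt_one_left hx0 ha.h₄).trans_le h2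
  rw [map_pow] at key
  exact not_le.2 key (pow_le_pow_right₀ hx (by norm_num))

theorem v_lt_of_not_mem {W : WeierstrassCurve F} [DecidableEq F] (ha : Small v W) {n : ℕ} (hn : v (n : F) = 1)
    {Q : W.toAffine.Point} (hQ : n • Q = 0) (h0 : Q ≠ 0) :
    ∃ x y h, Q = Point.some x y h ∧ v x < 1 ∧ v y < 1 := by
  have hm := not_mem_of_torsion v ha hn hQ h0
  rcases Q with _ | ⟨x, y, h⟩
  · exact absurd rfl h0
  have hy : v y < 1 := by
    by_contra! hy
    have hy0 : y ≠ 0 := fun e => by rw [e, map_zero] at hy; exact not_lt.2 hy zero_lt_one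
    refine hm ⟨hy0, ?_⟩
    rw [neg_div, v.map_neg, one_div, map_inv₀]
    exact inv_le_one_of_one_le₀ hy
  exact ⟨x, y, h, rfl, v_x_lt v ha h.1 hy, hy⟩

end

variable (R : Type u) [CommRing R] [IsDomain R] [IsDiscreteValuationRing R]
    {K : Type u} [Field K] [DecidableEq K] [Algebra R K] [IsFractionRing R K]

set_option quotPrecheck false in
local notation "vv" => (IsDiscreteValuationRing.maximalIdeal R).valuation K

theorem v_lt_one_iff_exists {ϖ : R} (hϖ : Irreducible ϖ) {x : K} :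
    vv x < 1 → ∃ r : R, x = algebraMap R K (ϖ * r) := by
  intro h
  obtain ⟨a, rfl⟩ := IsDiscreteValuationRing.exists_lift_of_le_one h.le
  rw [IsDedekindDomain.HeightOneSpectrum.valuation_lt_one_iff_mem] at h
  have : a ∈ Ideal.span {ϖ} := hϖ.maximalIdeal_eq ▸ h
  obtain ⟨r, hr⟩ := Ideal.mem_span_singleton.1 this
  exact ⟨r, by rw [hr]⟩

variable {R}

theorem semistable (W : WeierstrassCurve K) [W.IsElliptic] [WeierstrassCurve.IsMinimal R W]
    [IsAlgClosed (IsLocalRing.ResidueField R)] (n : ℕ) (hn : 4 < n)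
    (hk : (n : IsLocalRing.ResidueField R) ≠ 0) (P : W.toAffine.Point) (hP : addOrderOf P = n) :
    W.HasGoodReduction R ∨ W.HasMultiplicativeReduction R := by
  rcases hasGoodReduction_or_hasMultiplicativeReduction_or_hasAdditiveReduction (R := R) (W := W) with h | h | h
  · exact Or.inl h
  · exact Or.inr h
  exfalso
  obtain ⟨ϖ, hϖ⟩ := IsDiscreteValuationRing.exists_irreducible R
  have hmem : ∀ a : R, vv (algebraMap R K a) < 1 ↔ a ∈ IsLocalRing.maximalIdeal R := fun a =>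
    IsDedekindDomain.HeightOneSpectrum.valuation_lt_one_iff_mem _ _
  have hvϖ : vv (algebraMap R K ϖ) < 1 := (hmem _).2 hϖ.not_isUnit
  have hϖ0 : algebraMap R K ϖ ≠ 0 := by
    rw [Ne, map_eq_zero_iff _ (IsFractionRing.injective R K)]
    exact hϖ.ne_zero
  have hvn : vv (n : K) = 1 := by
    rw [← map_natCast (algebraMap R K), IsDedekindDomain.HeightOneSpectrum.valuation_eq_one_iff_notMem]
    intro hn'
    exact hk (by rw [← map_natCast (IsLocalRing.residue R), IsLocalRing.residue_eq_zero_iff]; exact hn')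
  -- the cusp of the reduction
  set I := integralModel R W with hI
  have hΔ : (I.map (IsLocalRing.residue R)).Δ = 0 := by
    rw [map_Δ, IsLocalRing.residue_eq_zero_iff, ← hmem, hI, integralModel_Δ_eq]
    exact h.badReduction
  have hc : (I.map (IsLocalRing.residue R)).c₄ = 0 := by
    rw [map_c₄, IsLocalRing.residue_eq_zero_iff, ← hmem, hI, integralModel_c₄_eq]
    exact h.additiveReduction
  obtain ⟨r₀, s₀, t₀, hcusp⟩ := exists_cusp _ hΔ hc
  obtain ⟨r, rfl⟩ := IsLocalRing.residue_surjective r₀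
  obtain ⟨s, rfl⟩ := IsLocalRing.residue_surjective s₀
  obtain ⟨t, rfl⟩ := IsLocalRing.residue_surjective t₀
  set J := (VariableChange.mk 1 r s t) • I with hJ
  have hJ0 : J.map (IsLocalRing.residue R) = ⟨0, 0, 0, 0, 0⟩ := by
    rw [hJ, ← map_variableChange, ← hcusp]
    simp [shift, VariableChange.map]
  have hJK : J.map (algebraMap R K) = shift W (algebraMap R K r) (algebraMap R K s) (algebraMap R K t) := by
    rw [hJ, ← map_variableChange]
    have := baseChange_integralModel_eq R W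
    rw [← hI] at this
    simp only [WeierstrassCurve.baseChange] at this
    rw [this]
    simp [shift, VariableChange.map]
  set W₁ := shift W (algebraMap R K r) (algebraMap R K s) (algebraMap R K t) with hW₁
  have ha₁ : Small vv W₁ := by
    rw [← hJK]
    constructor
    · exact (hmem _).2 ((IsLocalRing.residue_eq_zero_iff _).1 (congrArg WeierstrassCurve.a₁ hJ0))
    · exact (hmem _).2 ((IsLocalRing.residue_eq_zero_iff _).1 (congrArg WeierstrassCurve.a₂ hJ0))
    · exact (hmem _).2 ((IsLocalRing.residue_eq_zero_iff _).1 (congrArg WeierstrassCurve.a₃ hJ0))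
    · exact (hmem _).2 ((IsLocalRing.residue_eq_zero_iff _).1 (congrArg WeierstrassCurve.a₄ hJ0))
    · exact (hmem _).2 ((IsLocalRing.residue_eq_zero_iff _).1 (congrArg WeierstrassCurve.a₆ hJ0))
  have : W₁.IsElliptic := by rw [hW₁, shift]; infer_instance
  have hordP : addOrderOf (shiftHom W (algebraMap R K r) (algebraMap R K s) (algebraMap R K t) P) = n :=
    (addOrderOf_injective _ (shiftHom_injective _ _ _ _) P).trans hP
  generalize shiftHom W (algebraMap R K r) (algebraMap R K s) (algebraMap R K t) P = P₁ at hordP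
  -- move the point to the origin
  have hne : ∀ {V : WeierstrassCurve K} {Q : V.toAffine.Point}, addOrderOf Q = n → Q ≠ 0 := fun {V Q} e e' => by
    rw [e', addOrderOf_zero] at e
    omega
  obtain ⟨x₁, y₁, h₁, rfl, hx₁, hy₁⟩ := v_lt_of_not_mem vv ha₁ hvn
    (by rw [← hordP]; exact addOrderOf_nsmul_eq_zero P₁) (hne hordP)
  set W₂ := shift W₁ x₁ 0 y₁ with hW₂
  have ha₂ : Small vv W₂ := small_shift vv ha₁ hx₁ (by simp) hy₁
  have : W₂.IsElliptic := by rw [hW₂, shift]; infer_instance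
  obtain ⟨h₂, eP₂⟩ := shiftHom_some W₁ x₁ 0 y₁ h₁
  have hordP₂ := addOrderOf_injective _ (shiftHom_injective W₁ x₁ 0 y₁) (.some x₁ y₁ h₁)
  rw [eP₂, hordP] at hordP₂
  have e₁ : x₁ - x₁ = 0 := sub_self x₁
  have e₂ : y₁ - 0 * (x₁ - x₁) - y₁ = 0 := by ring
  obtain ⟨h₂', hordP₂'⟩ : ∃ h : W₂.toAffine.Nonsingular 0 0, addOrderOf (Point.some 0 0 h) = n := by
    revert h₂
    rw [e₁, show y₁ - 0 * 0 - y₁ = 0 by ring]
    exact fun h₂ _ e => ⟨h₂, e⟩
  clear hordP₂ eP₂ h₂
  -- multiples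
  have hmult : ∀ {V : WeierstrassCurve K} [V.IsElliptic], Small vv V → ∀ {Q : V.toAffine.Point}, addOrderOf Q = n →
      ∀ j : ℕ, 0 < j → j < n → ∃ x y h, j • Q = Point.some x y h ∧ vv x < 1 ∧ vv y < 1 := by
    intro V _ hV Q hQ j hj hjn
    refine v_lt_of_not_mem vv hV hvn ?_ ?_
    · rw [← mul_nsmul, mul_comm, mul_nsmul, ← hQ, addOrderOf_nsmul_eq_zero, smul_zero]
    · intro e
      exact Nat.not_dvd_of_pos_of_lt hj hjn (hQ ▸ addOrderOf_dvd_of_nsmul_eq_zero e)
  -- the tangent at the origin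
  have hy2 : (0 : K) ≠ W₂.toAffine.negY 0 0 := by
    intro e
    have : (2 : ℕ) • Point.some (0 : K) 0 h₂' = 0 := by rw [two_nsmul]; exact Point.add_self_of_Y_eq e
    have := addOrderOf_dvd_of_nsmul_eq_zero this
    rw [hordP₂'] at this
    have := Nat.le_of_dvd (by norm_num) this
    omega
  have ha3 : W₂.a₃ ≠ 0 := fun e => hy2 (by simp [negY, e])
  set σ := W₂.a₄ / W₂.a₃ with hσ'
  have hσ : vv σ < 1 := by
    obtain ⟨x, y, hxy, e, hx, -⟩ := hmult ha₂ hordP₂' 2 (by norm_num) (by omega)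
    rw [two_nsmul, Point.add_self_of_Y_ne hy2] at e
    injection e with ex ey
    have hs : W₂.toAffine.slope 0 0 0 0 = σ := by
      rw [slope_of_Y_ne rfl hy2, hσ']
      simp [negY]
    rw [hs] at ex
    simp only [addX, sub_zero] at ex
    by_contra! hσ1
    have hσ0 : 0 < vv σ := zero_lt_one.trans_le hσ1
    have h1 : vv (σ ^ 2) < vv σ ^ 2 := by
      rw [show σ ^ 2 = x + (W₂.a₂ - W₂.a₁ * σ) by rw [← ex]; ring]
      refine Valuation.map_add_lt _ (hx.trans_le (one_le_pow₀ hσ1)) (Valuation.map_sub_lt _ (ha₂.h₂.trans_le (one_le_pow₀ hσ1)) ?_)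
      rw [map_mul]
      exact (mul_lt_of_lt_one_left hσ0 ha₂.h₁).trans_le (le_self_pow hσ1 (by norm_num))
    rw [map_pow] at h1
    exact lt_irrefl _ h1
  set W₃ := shift W₂ 0 σ 0 with hW₃
  have ha₃ : Small vv W₃ := small_shift vv ha₂ (by simp) hσ (by simp)
  have : W₃.IsElliptic := by rw [hW₃, shift]; infer_instance
  obtain ⟨h₃, eP₃⟩ := shiftHom_some W₂ 0 σ 0 h₂'
  have hordP₃ := addOrderOf_injective _ (shiftHom_injective W₂ 0 σ 0) (.some 0 0 h₂')
  rw [eP₃, hordP₂'] at hordP₃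
  obtain ⟨h₃', hordP₃'⟩ : ∃ h : W₃.toAffine.Nonsingular 0 0, addOrderOf (Point.some 0 0 h) = n := by
    revert h₃
    rw [sub_zero, show (0 : K) - σ * 0 - 0 = 0 by ring]
    exact fun h₃ _ e => ⟨h₃, e⟩
  clear hordP₃ eP₃ h₃
  have h4 : W₃.a₄ = 0 := by
    rw [hW₃, shift_coeffs]
    simp [hσ', div_mul_cancel₀ _ ha3]
  have h6 : W₃.a₆ = 0 := by
    have := h₃'.1
    rwa [equation_zero] at this
  -- the first multiples of the origin
  obtain ⟨x2, y2, hh2, e2, hx2, hy2'⟩ := hmult ha₃ hordP₃' 2 (by norm_num) (by omega)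
  obtain ⟨x3, y3, hh3, e3, hx3, hy3'⟩ := hmult ha₃ hordP₃' 3 (by norm_num) (by omega)
  obtain ⟨x4, y4, hh4, e4, hx4, hy4'⟩ := hmult ha₃ hordP₃' 4 (by norm_num) (by omega)
  have hnot : ∀ j : ℕ, 0 < j → j ≤ 4 → j • Point.some (0 : K) 0 h₃' ≠ 0 := fun j hj hj4 e =>
    Nat.not_dvd_of_pos_of_lt hj (by omega) (hordP₃' ▸ addOrderOf_dvd_of_nsmul_eq_zero e)
  have hy0 : (0 : K) ≠ W₃.toAffine.negY 0 0 := fun e => hnot 2 (by norm_num) (by norm_num)
    (by rw [two_nsmul]; exact Point.add_self_of_Y_eq e)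
  have ha3' : W₃.a₃ ≠ 0 := fun e => hy0 (by simp [negY, e])
  rw [two_nsmul, Point.add_self_of_Y_ne hy0] at e2
  injection e2 with ex2 ey2
  have ex2' : x2 = -W₃.a₂ := by rw [← ex2, slope_of_Y_ne rfl hy0]; simp [h4]
  have ey2' : y2 = W₃.a₁ * W₃.a₂ - W₃.a₃ := by rw [← ey2, slope_of_Y_ne rfl hy0]; simp [h4, addY, negY]
  have hne2 : ∀ {x y : K} {h : W₃.toAffine.Nonsingular x y} (j : ℕ), 0 < j → j < 4 →
      j • Point.some (0 : K) 0 h₃' = Point.some x y h → j ≠ 1 → x ≠ 0 := by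
    intro x y h j hj hj4 e hj1 hx
    rcases (Point.X_eq_iff (h₁ := h) (h₂ := h₃')).1 hx with e' | e'
    · rw [e'] at e
      obtain ⟨i, rfl⟩ := Nat.exists_eq_succ_of_ne_zero hj.ne'
      rw [succ_nsmul, add_eq_right] at e
      exact hnot i (by omega) (by omega) e
    · exact hnot (j + 1) (by omega) (by omega) (by rw [succ_nsmul, e, e', neg_add_cancel])
  have hx20 : x2 ≠ 0 := hne2 (h := hh2) 2 (by norm_num) (by norm_num)
    (by rw [two_nsmul, Point.add_self_of_Y_ne hy0]; simp only [Point.some.injEq]; exact ⟨ex2, ey2⟩) (by norm_num)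
  have ha2' : W₃.a₂ ≠ 0 := fun e => hx20 (by simp [ex2', e])
  set α := W₃.a₃ / W₃.a₂ with hα'
  have hα : W₃.a₃ = α * W₃.a₂ := (div_mul_cancel₀ _ ha2').symm
  set γ := α - W₃.a₁ with hγ'
  have e2' : 2 • Point.some (0 : K) 0 h₃' = Point.some x2 y2 hh2 := by
    rw [two_nsmul, Point.add_self_of_Y_ne hy0]; simp only [Point.some.injEq]; exact ⟨ex2, ey2⟩
  rw [succ_nsmul, e2', Point.add_of_X_ne hx20] at e3
  injection e3 with ex3 ey3
  rw [slope_of_X_ne hx20, sub_zero, sub_zero] at ex3 ey3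
  have hL3 : y2 / x2 = γ := by
    rw [ey2', ex2', hγ', hα']
    field_simp
    ring
  rw [hL3] at ex3 ey3
  have ex3' : x3 = α * γ := by rw [← ex3]; simp only [addX, ex2', hγ']; ring
  have ey3' : y3 = -α * x3 - W₃.a₃ := by
    rw [← ey3, ex3']
    simp only [addY, negAddY, negY, addX]
    rw [ex2', ey2', hα, hγ']
    ring
  have e3' : 3 • Point.some (0 : K) 0 h₃' = Point.some x3 y3 hh3 := by
    rw [succ_nsmul, e2', Point.add_of_X_ne hx20]
    simp only [Point.some.injEq]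
    rw [slope_of_X_ne hx20, sub_zero, sub_zero, hL3]
    exact ⟨ex3, ey3⟩
  have hx30 : x3 ≠ 0 := hne2 (h := hh3) 3 (by norm_num) (by norm_num) e3' (by norm_num)
  have hγ0 : γ ≠ 0 := fun e => hx30 (by rw [ex3', e, mul_zero])
  rw [succ_nsmul, e3', Point.add_of_X_ne hx30] at e4
  injection e4 with ex4 ey4
  rw [slope_of_X_ne hx30, sub_zero, sub_zero] at ex4
  have ex4' : x4 = α * (W₃.a₂ / γ) + (W₃.a₂ / γ) * (W₃.a₂ / γ) := by
    rw [← ex4, ey3', hα]
    simp only [addX]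
    rw [ex3', hγ']
    rw [hγ'] at hγ0
    have hα0 : α ≠ 0 := fun e => ha3' (by rw [hα, e, zero_mul])
    field_simp
    ring
  -- valuations
  have hvα : vv α < 1 := by
    by_contra! hα1
    have hvγ : vv γ = vv α := by
      rw [hγ', sub_eq_add_neg]
      refine Valuation.map_add_eq_of_lt_left _ ?_
      rw [Valuation.map_neg]
      exact ha₃.h₁.trans_le hα1
    rw [ex3', map_mul, hvγ] at hx3
    exact not_le.2 hx3 (one_le_mul hα1 hα1)
  obtain ⟨b, hb⟩ := v_lt_one_iff_exists R hϖ ha₃.h₁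
  obtain ⟨q, hq⟩ := v_lt_one_iff_exists R hϖ hvα
  obtain ⟨c, hc2⟩ := v_lt_one_iff_exists R hϖ ha₃.h₂
  obtain ⟨c', rfl⟩ : ϖ ∣ c := by
    by_contra hnd
    have hc' : vv (algebraMap R K c) = 1 := by
      rw [IsDedekindDomain.HeightOneSpectrum.valuation_eq_one_iff_notMem]
      intro hc
      exact hnd (Ideal.mem_span_singleton.1 (hϖ.maximalIdeal_eq ▸ hc))
    have h1 : 1 ≤ vv (W₃.a₂ / γ) := by
      have : vv γ ≤ vv (algebraMap R K ϖ) := by
        rw [hγ', hq, hb, ← map_sub, ← mul_sub, map_mul, map_mul]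
        exact mul_le_of_le_one_right' (IsDedekindDomain.HeightOneSpectrum.valuation_le_one _ _)
      rw [map_div₀, le_div_iff₀ (zero_lt_iff.2 ((vv).ne_zero_iff.2 hγ0)), one_mul, hc2, map_mul, map_mul, hc', mul_one]
      exact this
    have h2 : vv (α * (W₃.a₂ / γ)) < vv (W₃.a₂ / γ * (W₃.a₂ / γ)) := by
      rw [map_mul, map_mul]
      exact mul_lt_mul_of_pos_right (hvα.trans_le h1) (zero_lt_one.trans_le h1)
    rw [ex4', Valuation.map_add_eq_of_lt_right _ h2, map_mul] at hx4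
    exact not_le.2 hx4 (one_le_mul h1 h1)
  -- the equation is not minimal
  let u : Kˣ := Units.mk0 (algebraMap R K ϖ) hϖ0
  let C : VariableChange K := VariableChange.mk u 0 0 0 * (VariableChange.mk 1 0 σ 0 * (VariableChange.mk 1 x₁ 0 y₁ *
    VariableChange.mk 1 (algebraMap R K r) (algebraMap R K s) (algebraMap R K t)))
  have hC : C • W = (VariableChange.mk u 0 0 0) • W₃ := by
    simp only [C, mul_smul, hW₃, hW₂, hW₁, shift]
  have hint : IsIntegral R (C • W) := by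
    rw [hC]
    refine isIntegral_of_exists_lift R ⟨b, ?_⟩ ⟨c', ?_⟩ ⟨q * c', ?_⟩ ⟨0, ?_⟩ ⟨0, ?_⟩
    · rw [variableChange_a₁]
      simp [u, hb, map_mul, inv_mul_cancel_left₀ hϖ0]
    · rw [variableChange_a₂]
      simp [u, hc2, map_mul]
      field_simp
    · rw [variableChange_a₃]
      simp [u, hα, hq, hc2, map_mul]
      field_simp
    · rw [variableChange_a₄]
      simp [h4]
    · rw [variableChange_a₆]
      simp [h6]
  have hmax := (IsMinimal.val_Δ_maximal (R := R) (W := W)).2 hint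
  have hvΔ : vv (C • W).Δ = (vv (algebraMap R K ϖ))⁻¹ ^ 12 * vv W.Δ := by
    rw [variableChange_Δ]
    simp [C, u, VariableChange.mul_def, map_mul, map_pow, map_inv₀]
  have hΔpos : 0 < vv W.Δ := zero_lt_iff.2 ((vv).ne_zero_iff.2 (W.coe_Δ' ▸ W.Δ'.ne_zero))
  have hlt : vv W.Δ < vv (C • W).Δ := by
    rw [hvΔ]
    refine lt_mul_of_one_lt_left hΔpos (one_lt_pow₀ ?_ (by norm_num))
    exact one_lt_inv_iff₀.2 ⟨zero_lt_iff.2 ((vv).ne_zero_iff.2 hϖ0), hvϖ⟩
  have := hint
  have e1 : (valuation_Δ_aux R ((1 : VariableChange K) • W)).1 = vv W.Δ := by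
    rw [one_smul]; exact valuation_Δ_aux_eq_of_isIntegral R W
  have e2'' : (valuation_Δ_aux R (C • W)).1 = vv (C • W).Δ := valuation_Δ_aux_eq_of_isIntegral R _
  have hle := hmax (show (valuation_Δ_aux R ((1 : VariableChange K) • W)).1 ≤ (valuation_Δ_aux R (C • W)).1 by
    rw [e1, e2'']; exact hlt.le)
  change (valuation_Δ_aux R (C • W)).1 ≤ (valuation_Δ_aux R ((1 : VariableChange K) • W)).1 at hle
  rw [e1, e2''] at hle
  exact not_lt.2 hle hlt

end Groth.Agent.Weier21
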